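import Cfsg.Agent.BpExc.NChev
import Cfsg.Prelude.Def_EvenType
import Cfsg.Agent.H994.KE.Base_m3
import Cfsg.Agent.H319.One.Base
import Cfsg.Agent.FastGrp
import Cfsg.Agent.Prune
set_option linter.all false

section
prune_inst 0x7ff0fefb8fb8bfffffff7ffffeffdffc39d0dfffaffff94b7fe9e3ff3fdf23231fe5fbbf9df052ff9ff7e2b630b87843fbfeebbfef6bdc7ffffd5ff45ffbee1fb7efbd8951d69c340ffc6ffff3f07fce7f3ffffffffffffffffffffffffffffffffdffffffff

-- part: H461/E2/Fix
section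
prune_inst 0x40000000000000000000000000000010000200800200000000040000000000000000000000010000000000000100000000000000000000000000000000002000000000000000000000000000000000000000000000000000000000000000000000
set_option linter.all false
open scoped Cfsg.Agent.FastGrp

-- part: H461/E2/Sup
section
/-!
# Joins of root groups over sets of positive roots closed under integral combinations (S4880, E2)

* `ZCl Ψ` : `Ψ` contains all roots `i x + j y`, `x y ∈ Ψ`, `i j > 0` integers;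
* `ZComm X` : the commutator relations with integral coefficients;
* `mem_peel` : `Sup X Ψ = X b * Sup X (Ψ \ {b})`, `b ∈ Ψ` minimal for a functional positive on `Ψ`;
* `inf_eq_bot` : `X b ⊓ Sup X (Ψ \ {b}) = ⊥` (finite level, by counting).
-/

set_option autoImplicit false
set_option linter.unusedSectionVars false

namespace Cfsg.Agent.H461.E2.Sup

open CoxeterSystem Cfsg.Agent.ChevalleyStructure.CoxeterGeom Cfsg.Agent.Tits.Roots Cfsg.Agent.Tits.Core
  Cfsg.Agent.Nodes.Reps Cfsg.Agent.Nodes.BNOf Cfsg.Agent.BpExc.NInst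
open scoped commutatorElement

/-- The order of a product of two disjoint subgroups, lower bound. -/
theorem card_mul_le {Y : Type*} [Group Y] {A B C : Subgroup Y} (hA : A ≤ C) (hB : B ≤ C) (hd : A ⊓ B = ⊥)
    [Finite ↥C] : Nat.card A * Nat.card B ≤ Nat.card C := by
  rw [← Nat.card_prod]
  refine Nat.card_le_card_of_injective (fun x : ↥A × ↥B => (⟨x.1 * x.2, mul_mem (hA x.1.2) (hB x.2.2)⟩ : ↥C)) ?_
  rintro ⟨⟨a, ha⟩, ⟨b, hb⟩⟩ ⟨⟨a', ha'⟩, ⟨b', hb'⟩⟩ e
  have e1 : a * b = a' * b' := congrArg Subtype.val e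
  have e2 : a'⁻¹ * a = b' * b⁻¹ := by
    rw [inv_mul_eq_iff_eq_mul, ← mul_assoc, ← e1, mul_inv_cancel_right]
  have e3 : a'⁻¹ * a ∈ A ⊓ B :=
    Subgroup.mem_inf.2 ⟨mul_mem (inv_mem ha') ha, by rw [e2]; exact mul_mem hb' (inv_mem hb)⟩
  rw [hd, Subgroup.mem_bot] at e3
  have e4 : a = a' := (inv_mul_eq_one.1 e3).symm
  subst e4
  have e5 : b = b' := mul_left_cancel e1
  subst e5
  rfl

/-- The order of a product of two subgroups, upper bound. -/
theorem card_le_mul {Y : Type*} [Group Y] {A B C : Subgroup Y} (h : ∀ g ∈ C, ∃ a ∈ A, ∃ b ∈ B, g = a * b)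
    [Finite ↥A] [Finite ↥B] : Nat.card C ≤ Nat.card A * Nat.card B := by
  rw [← Nat.card_prod]
  have h' : ∀ g : ↥C, ∃ x : ↥A × ↥B, (g : Y) = x.1 * x.2 := by
    rintro ⟨g, hg⟩
    obtain ⟨a, ha, b, hb, e⟩ := h g hg
    exact ⟨(⟨a, ha⟩, ⟨b, hb⟩), e⟩
  choose F hF using h'
  refine Nat.card_le_card_of_injective F ?_
  intro a b hab
  apply Subtype.ext
  rw [hF a, hF b, hab]

/-- If the orders multiply, the product of the two subgroups is direct as a set. -/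
theorem inf_eq_bot_of_card {Y : Type*} [Group Y] {A B C : Subgroup Y} (hA : A ≤ C) (hB : B ≤ C)
    (h : ∀ g ∈ C, ∃ a ∈ A, ∃ b ∈ B, g = a * b) [Finite ↥C] (hc : Nat.card A * Nat.card B ≤ Nat.card C) :
    A ⊓ B = ⊥ := by
  have hfA : Finite ↥A := Finite.of_injective (Subgroup.inclusion hA) (Subgroup.inclusion_injective hA)
  have hfB : Finite ↥B := Finite.of_injective (Subgroup.inclusion hB) (Subgroup.inclusion_injective hB)
  let F : ↥A × ↥B → ↥C := fun x => ⟨x.1 * x.2, mul_mem (hA x.1.2) (hB x.2.2)⟩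
  have hsurj : Function.Surjective F := by
    rintro ⟨g, hg⟩
    obtain ⟨a, ha, b, hb, e⟩ := h g hg
    exact ⟨(⟨a, ha⟩, ⟨b, hb⟩), Subtype.ext e.symm⟩
  have hcard : Nat.card (↥A × ↥B) = Nat.card ↥C := by
    apply le_antisymm
    · rw [Nat.card_prod]; exact hc
    · exact Nat.card_le_card_of_surjective F hsurj
  have hbij := (Nat.bijective_iff_surjective_and_card F).2 ⟨hsurj, hcard⟩
  rw [eq_bot_iff]
  rintro y ⟨hyA, hyB⟩
  have h1 : F (⟨y, hyA⟩, 1) = F (1, ⟨y, hyB⟩) := Subtype.ext (by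
    show y * 1 = 1 * y
    rw [mul_one, one_mul])
  have h2 := congrArg Prod.fst (hbij.1 h1)
  rw [Subgroup.mem_bot]
  exact congrArg Subtype.val h2

variable {I W Y : Type*} [Fintype I] [DecidableEq I] [Group W] [Group Y] {M : CoxeterMatrix I}
  {cs : CoxeterSystem M W} {A : I → I → ℤ} {h : IsCartan M A}

/-- `Ψ` is closed under integral combinations. -/
def ZCl (cs : CoxeterSystem M W) (h : IsCartan M A) (Ψ : Set (I → ℤ)) : Prop :=
  ∀ x ∈ Ψ, ∀ y ∈ Ψ, ∀ z, IsRoot cs h z → (∃ i j : ℕ, 0 < i ∧ 0 < j ∧ z = i • x + j • y) → z ∈ Ψ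

/-- The commutator relations with integral coefficients. -/
def ZComm (cs : CoxeterSystem M W) (h : IsCartan M A) (X : (I → ℤ) → Subgroup Y) : Prop :=
  ∀ x y, IsRoot cs h x → IsRoot cs h y → x ≠ y → x ≠ -y → ∀ a ∈ X x, ∀ b ∈ X y,
    ⁅a, b⁆ ∈ RGD.Sup X {z | IsRoot cs h z ∧ ∃ i j : ℕ, 0 < i ∧ 0 < j ∧ z = i • x + j • y}

section Comb

variable {φ : (I → ℤ) →+ ℤ} {Ψ : Set (I → ℤ)} {b : I → ℤ}

theorem lt_comb {x y : I → ℤ} (hx : 0 < φ x) (hy : 0 < φ y) {i j : ℕ} (hi : 0 < i) (hj : 0 < j) :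
    φ x < φ (i • x + j • y) := by
  rw [map_add, map_nsmul, map_nsmul, nsmul_eq_mul, nsmul_eq_mul]
  have h1 : (1 : ℤ) ≤ i := by exact_mod_cast hi
  have h2 : (1 : ℤ) ≤ j := by exact_mod_cast hj
  nlinarith

theorem ZCl.diff (hΨ : ZCl cs h Ψ) (hφ : ∀ a ∈ Ψ, 0 < φ a) (hb : ∀ a ∈ Ψ, φ b ≤ φ a) : ZCl cs h (Ψ \ {b}) := by
  rintro x ⟨hx, hxb⟩ y ⟨hy, hyb⟩ z hz ⟨i, j, hi, hj, rfl⟩
  refine ⟨hΨ x hx y hy _ hz ⟨i, j, hi, hj, rfl⟩, fun e => ?_⟩
  rw [Set.mem_singleton_iff] at e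
  have h1 := lt_comb (hφ x hx) (hφ y hy) hi hj
  rw [e] at h1
  exact absurd (hb x hx) (not_le.2 h1)

end Comb

section Peel

variable {X : (I → ℤ) → Subgroup Y} {φ : (I → ℤ) →+ ℤ} {Ψ : Set (I → ℤ)} {b : I → ℤ}

theorem le_normalizer (hX : ZComm cs h X) (hr : ∀ a ∈ Ψ, IsRoot cs h a) (hΨ : ZCl cs h Ψ)
    (hφ : ∀ a ∈ Ψ, 0 < φ a) (hbΨ : b ∈ Ψ) (hb : ∀ a ∈ Ψ, φ b ≤ φ a) :
    X b ≤ Subgroup.normalizer (RGD.Sup X (Ψ \ {b}) : Set Y) := by
  have key : ∀ a ∈ X b, cj a (RGD.Sup X (Ψ \ {b})) ≤ RGD.Sup X (Ψ \ {b}) := by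
    intro a ha
    rw [RGD.cj_Sup]
    refine iSup_le ?_
    rintro ⟨y, hy, hyb⟩ u hu
    rw [mem_cj] at hu
    have hne : b ≠ y := fun e => hyb (by rw [Set.mem_singleton_iff]; exact e.symm)
    have hne' : b ≠ -y := fun e => by
      have h1 := hφ b hbΨ
      have h2 := hφ y hy
      rw [e, map_neg] at h1
      omega
    have h1 := hX b y (hr b hbΨ) (hr y hy) hne hne' a ha _ hu
    have h2 : u = ⁅a, a⁻¹ * u * a⁆ * (a⁻¹ * u * a) := by
      rw [commutatorElement_def]; group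
    rw [h2]
    refine mul_mem (RGD.Sup_mono ?_ h1) (RGD.le_Sup (S := Ψ \ {b}) ⟨hy, hyb⟩ hu)
    rintro z ⟨hz, i, j, hi, hj, rfl⟩
    refine ⟨hΨ b hbΨ y hy _ hz ⟨i, j, hi, hj, rfl⟩, fun e => ?_⟩
    rw [Set.mem_singleton_iff] at e
    have h3 := lt_comb (hφ b hbΨ) (hφ y hy) hi hj
    rw [e] at h3
    exact lt_irrefl _ h3
  intro a ha
  rw [mem_normalizer_iff_cj]
  apply le_antisymm (key a ha)
  have h1 := key a⁻¹ (inv_mem ha)
  have h2 := cj_mono a h1
  rwa [cj_cj_inv] at h2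

/-- **Peeling.** -/
theorem mem_peel (hX : ZComm cs h X) (hr : ∀ a ∈ Ψ, IsRoot cs h a) (hΨ : ZCl cs h Ψ)
    (hφ : ∀ a ∈ Ψ, 0 < φ a) (hbΨ : b ∈ Ψ) (hb : ∀ a ∈ Ψ, φ b ≤ φ a) {u : Y} (hu : u ∈ RGD.Sup X Ψ) :
    ∃ a ∈ X b, ∃ v ∈ RGD.Sup X (Ψ \ {b}), u = a * v := by
  have h1 : RGD.Sup X Ψ ≤ X b ⊔ RGD.Sup X (Ψ \ {b}) := by
    refine RGD.Sup_le fun z hz => ?_
    by_cases hzb : z = b
    · rw [hzb]; exact le_sup_left
    · exact (RGD.le_Sup (S := Ψ \ {b}) ⟨hz, hzb⟩).trans le_sup_right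
  have h2 : u ∈ ((X b ⊔ RGD.Sup X (Ψ \ {b}) : Subgroup Y) : Set Y) := h1 hu
  rw [Subgroup.coe_mul_of_left_le_normalizer_right _ _ (le_normalizer hX hr hΨ hφ hbΨ hb), Set.mem_mul] at h2
  obtain ⟨a, ha, v, hv, e⟩ := h2
  exact ⟨a, ha, v, hv, e.symm⟩

/-- A subset of the positive roots has an element of minimal value. -/
theorem exists_min (hfin : Ψ.Finite) (hne : Ψ.Nonempty) (φ : (I → ℤ) →+ ℤ) :
    ∃ b ∈ Ψ, ∀ a ∈ Ψ, φ b ≤ φ a := by
  obtain ⟨b, hb, hmin⟩ := hfin.exists_minimalFor φ Ψ hne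
  refine ⟨b, hb, fun a ha => ?_⟩
  rcases le_total (φ b) (φ a) with h1 | h1
  · exact h1
  · exact hmin ha h1

end Peel

/-! ### finite level -/

section Fin

variable {p : ℕ} {T : Subgroup Y} {n : I → Y} {X : (I → ℤ) → Subgroup Y} (R : RGD cs h p T n X) {q : ℕ}
  (hq : ∀ a, IsRoot cs h a → Nat.card ↥(X a) = q) (hfin : Finite ↥(RGD.Sup X (RGD.Pos cs h)))

include hfin in
theorem finite_Sup {O : Set (I → ℤ)} (hO : O ⊆ RGD.Pos cs h) : Finite ↥(RGD.Sup X O) :=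
  Finite.of_injective (Subgroup.inclusion (RGD.Sup_mono hO)) (Subgroup.inclusion_injective _)

include hfin in
theorem finite_X {a : I → ℤ} (ha : a ∈ RGD.Pos cs h) : Finite ↥(X a) :=
  Finite.of_injective (Subgroup.inclusion (RGD.le_Sup (X := X) ha)) (Subgroup.inclusion_injective _)

include R hq hfin in
theorem card_ge [Finite W] {O : Set (I → ℤ)} (hO : O ⊆ RGD.Pos cs h) :
    q ^ O.ncard ≤ Nat.card ↥(RGD.Sup X O) := by
  have hroots : (RGD.Pos cs h).Finite := (RGD.finite_roots (cs := cs) (h := h)).subset fun a ha => ha.1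
  induction hn : O.ncard generalizing O with
  | zero =>
    rw [pow_zero]
    have := finite_Sup hfin hO
    exact Nat.card_pos
  | succ m ih =>
    have hOf : O.Finite := hroots.subset hO
    have hne : O.Nonempty := by
      rw [← Set.ncard_pos hOf]; omega
    obtain ⟨x, hx, S', hS', hinf⟩ := exists_first R hne hO
    have h1 : (O \ {x}).ncard = m := by
      rw [Set.ncard_sdiff_singleton_of_mem hx, hn]; rfl
    have h2 := ih (O := O \ {x}) (Set.sdiff_subset.trans hO) h1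
    have := finite_Sup hfin hO
    have h3 := card_mul_le (A := X x) (B := RGD.Sup X (O \ {x})) (C := RGD.Sup X O) (RGD.le_Sup hx)
      (RGD.Sup_mono Set.sdiff_subset) (by
        rw [eq_bot_iff, ← hinf]
        exact inf_le_inf_left _ (RGD.Sup_mono hS'))
    rw [hq x (hO hx).1] at h3
    rw [pow_succ, mul_comm]
    exact (Nat.mul_le_mul_left q h2).trans h3

include hq hfin in
theorem card_le [Finite W] (hX : ZComm cs h X) {Ψ : Set (I → ℤ)} (hP : Ψ ⊆ RGD.Pos cs h) (hΨ : ZCl cs h Ψ) :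
    Nat.card ↥(RGD.Sup X Ψ) ≤ q ^ Ψ.ncard := by
  have hroots : (RGD.Pos cs h).Finite := (RGD.finite_roots (cs := cs) (h := h)).subset fun a ha => ha.1
  induction hn : Ψ.ncard generalizing Ψ with
  | zero =>
    have h1 : Ψ = ∅ := (Set.ncard_eq_zero (hroots.subset hP)).1 hn
    have h2 : RGD.Sup X Ψ = ⊥ := by
      rw [eq_bot_iff]
      refine RGD.Sup_le fun z hz => ?_
      rw [h1] at hz
      exact absurd hz (Set.notMem_empty z)
    rw [h2, Subgroup.card_bot, pow_zero]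
  | succ m ih =>
    have hΨf : Ψ.Finite := hroots.subset hP
    have hne : Ψ.Nonempty := by
      rw [← Set.ncard_pos hΨf]; omega
    have hφ : ∀ a ∈ Ψ, 0 < Nodes.Slope.htHom a := fun a ha => RGD.ht_pos (hP ha).1 (hP ha).2
    obtain ⟨b, hbΨ, hb⟩ := exists_min hΨf hne Nodes.Slope.htHom
    have h1 : (Ψ \ {b}).ncard = m := by
      rw [Set.ncard_sdiff_singleton_of_mem hbΨ, hn]; rfl
    have h2 := ih (Ψ := Ψ \ {b}) (Set.sdiff_subset.trans hP) (hΨ.diff hφ hb) h1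
    have := finite_X hfin (hP hbΨ)
    have := finite_Sup hfin (Set.sdiff_subset.trans hP : Ψ \ {b} ⊆ RGD.Pos cs h)
    have h3 := card_le_mul (A := X b) (B := RGD.Sup X (Ψ \ {b})) (C := RGD.Sup X Ψ) fun g hg =>
      mem_peel hX (fun a ha => (hP ha).1) hΨ hφ hbΨ hb hg
    rw [hq b (hP hbΨ).1] at h3
    rw [pow_succ, mul_comm]
    exact h3.trans (Nat.mul_le_mul_left q h2)

include R hq hfin in
/-- **Uniqueness of the lowest component.** -/
theorem inf_eq_bot [Finite W] (hX : ZComm cs h X) {Ψ : Set (I → ℤ)} (hP : Ψ ⊆ RGD.Pos cs h) (hΨ : ZCl cs h Ψ)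
    {φ : (I → ℤ) →+ ℤ} (hφ : ∀ a ∈ Ψ, 0 < φ a) {b : I → ℤ} (hbΨ : b ∈ Ψ) (hb : ∀ a ∈ Ψ, φ b ≤ φ a) :
    X b ⊓ RGD.Sup X (Ψ \ {b}) = ⊥ := by
  have hroots : (RGD.Pos cs h).Finite := (RGD.finite_roots (cs := cs) (h := h)).subset fun a ha => ha.1
  have hΨf : Ψ.Finite := hroots.subset hP
  have := finite_Sup hfin hP
  refine inf_eq_bot_of_card (C := RGD.Sup X Ψ) (RGD.le_Sup hbΨ) (RGD.Sup_mono Set.sdiff_subset)
    (fun g hg => mem_peel hX (fun a ha => (hP ha).1) hΨ hφ hbΨ hb hg) ?_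
  refine le_trans ?_ (card_ge R hq hfin hP)
  have h1 := card_le hq hfin hX (Set.sdiff_subset.trans hP : Ψ \ {b} ⊆ RGD.Pos cs h) (hΨ.diff hφ hb)
  rw [hq b (hP hbΨ).1]
  refine (Nat.mul_le_mul_left q h1).trans ?_
  have h2 : Ψ.ncard = (Ψ \ {b}).ncard + 1 := by
    rw [Set.ncard_sdiff_singleton_of_mem hbΨ]
    have := (Set.ncard_pos hΨf).2 ⟨b, hbΨ⟩
    omega
  rw [h2, pow_succ, mul_comm]

end Fin

end Cfsg.Agent.H461.E2.Sup
end

-- part: H461/E2/Fix
section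
/-!
# The fixed points of a frame automorphism in a unipotent group (S4880, E2)

`D.group k`, `k` locally finite, algebraically closed of characteristic `r`; `τ` a frame automorphism (for `g`),
`IsFrob r e τ`, `e > 0`; `Ψ` a `g`-invariant set of positive roots, closed under integral combinations:
`card_fix` : `|(Sup X Ψ)^τ| = (r ^ e) ^ |Ψ|`.
-/

set_option autoImplicit false
set_option linter.unusedSectionVars false

namespace Cfsg.Agent.H461.E2.Fix

open CoxeterSystem Cfsg Cfsg.Lie Cfsg.Lie.ChevalleyDatum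
open Cfsg.Agent.ChevalleyStructure Cfsg.Agent.ChevalleyStructure.Elts Cfsg.Agent.ChevalleyStructure.CoxeterGeom
  Cfsg.Agent.ChevalleyStructure.CoxeterGeomTypes Cfsg.Agent.ChevalleyStructure.NPerm
open Cfsg.Agent.Tits.Roots Cfsg.Agent.Tits.Core Cfsg.Agent.Nodes Cfsg.Agent.Nodes.Reps Cfsg.Agent.Nodes.BNOf
  Cfsg.Agent.Nodes.RGDChev Cfsg.Agent.Nodes.Bruhat Cfsg.Agent.Nodes.NormalForm
open Cfsg.Agent.KFacts.RgdField Cfsg.Agent.KFacts.RgdChevCoord
open Cfsg.Agent.BpExc Cfsg.Agent.BpExc.TorCent Cfsg.Agent.BpExc.TorChev Cfsg.Agent.BpExc.Tow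
  Cfsg.Agent.BpExc.TowChev Cfsg.Agent.BpExc.Fr Cfsg.Agent.BpExc.Pair Cfsg.Agent.BpExc.LangFr Cfsg.Agent.GpExc.Field
  Cfsg.Agent.BpExc.NInst Cfsg.Agent.H461.E2.Sup
open scoped commutatorElement

universe u

/-! ### the fixed points in the field -/

theorem card_frob {k : Type u} [Field k] [IsAlgClosed k] {r : ℕ} [Fact r.Prime] [CharP k r] {s : ℕ} (hs : 0 < s) :
    Nat.card {t : k // t ^ r ^ s = t} = r ^ s := by
  classical
  have hr1 : 1 < r := (Fact.out : r.Prime).one_lt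
  have hQ : 1 < r ^ s := Nat.one_lt_pow hs.ne' hr1
  let P : Polynomial k := Polynomial.X ^ r ^ s - Polynomial.X
  have hP0 : P ≠ 0 := FiniteField.X_pow_card_pow_sub_X_ne_zero k hs.ne' hr1
  have hdeg : P.natDegree = r ^ s := FiniteField.X_pow_card_pow_sub_X_natDegree_eq k hs.ne' hr1
  have hsep : P.Separable := galois_poly_separable r (r ^ s) (dvd_pow_self r hs.ne')
  have h1 : Fintype.card (P.rootSet k) = P.natDegree :=
    Polynomial.card_rootSet_eq_natDegree hsep (IsAlgClosed.splits _)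
  rw [hdeg] at h1
  refine Eq.trans ?_ h1
  rw [← Nat.card_eq_fintype_card]
  refine Nat.card_congr (Equiv.subtypeEquivRight fun t => ?_)
  rw [Polynomial.mem_rootSet]
  constructor
  · intro ht
    exact ⟨hP0, by simp [P, ht]⟩
  · rintro ⟨-, ht⟩
    simpa [P, sub_eq_zero] using ht

theorem card_twist {k : Type u} [Field k] [IsAlgClosed k] {r : ℕ} [Fact r.Prime] [CharP k r] {s : ℕ} (hs : 0 < s)
    {c : k} (hc : c ≠ 0) : Nat.card {t : k // c * t ^ r ^ s = t} = r ^ s := by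
  have hr1 : 1 < r := (Fact.out : r.Prime).one_lt
  have hQ : 1 < r ^ s := Nat.one_lt_pow hs.ne' hr1
  obtain ⟨d, hd⟩ := IsAlgClosed.exists_pow_nat_eq c (n := r ^ s - 1) (by omega)
  have hd0 : d ≠ 0 := by
    rintro rfl
    rw [zero_pow (by omega)] at hd
    exact hc hd.symm
  have hdQ : d ^ r ^ s = d * c := by
    obtain ⟨n, hn⟩ : ∃ n, r ^ s = n + 1 := ⟨r ^ s - 1, by omega⟩
    rw [hn] at hd ⊢
    rw [Nat.add_sub_cancel] at hd
    rw [pow_succ, hd, mul_comm]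
  refine Eq.trans ?_ (card_frob (k := k) (r := r) hs)
  refine Nat.card_congr ((Equiv.mulLeft₀ d hd0).subtypeEquiv fun t => ?_)
  show c * t ^ r ^ s = t ↔ (d * t) ^ r ^ s = d * t
  rw [mul_pow, hdQ, mul_assoc, mul_right_inj' hd0]

/-! ### uniqueness in the limit -/

variable {D : ChevalleyDatum} {l : ℕ} {M : CoxeterMatrix (Fin l)} (hp : IsType D l M) {k : Type u} [Field k]
  {W : Type*} [Group W] (cs : CoxeterSystem M W) (hk : LocFin k) (r : ℕ) [Fact r.Prime] [CharP k r]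

theorem zcomm : ZComm cs hp.isCartan (XX D l k) := fun _ _ hx hy hxy hxy' _ ha _ hb =>
  CommZ.comm_mem_Z hp cs hx hy hxy hxy' ha hb

theorem zcomm_lev (E : Lev k) : ZComm cs hp.isCartan (Xj hp E) := fun _ _ hx hy hxy hxy' _ ha _ hb =>
  CommZ.comm_mem_Zj hp cs E hx hy hxy hxy' ha hb

include cs in
theorem card_Xj (E : Lev k) {a : Fin l → ℤ} (ha : IsRoot cs hp.isCartan a) :
    Nat.card ↥(Xj hp E a) = Nat.card ↥E.1 := by
  obtain ⟨s, hs, rfl⟩ := (isRoot_iff hp cs a).1 ha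
  symm
  refine Nat.card_congr (Equiv.ofBijective
    (fun t : ↥E.1 => (⟨xc hp (vec D l s) t, (HX.mem_Xj hp hs).2 ⟨t, t.2, rfl⟩⟩ : ↥(Xj hp E (vec D l s)))) ⟨?_, ?_⟩)
  · intro t t' e
    exact Subtype.ext (xc_inj hp hs (congrArg Subtype.val e))
  · rintro ⟨y, hy⟩
    obtain ⟨t, ht, rfl⟩ := (HX.mem_Xj hp hs).1 hy
    exact ⟨⟨t, ht⟩, rfl⟩

theorem finite_Supj (E : Lev k) (S : Set (Fin l → ℤ)) (hS : ∀ a ∈ S, IsRoot cs hp.isCartan a) :
    Finite ↥(RGD.Sup (Xj hp E) S) := by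
  have := finite_GG hp cs E
  have h1 : RGD.Sup (Xj hp E) S ≤ GG cs hp.isCartan (Tj hp E) (Xj hp E) :=
    RGD.Sup_le fun a ha => X_le_GG (hS a ha)
  exact Finite.of_injective (Subgroup.inclusion h1) (Subgroup.inclusion_injective _)

include hk r in
/-- **Uniqueness of the lowest component, in the limit.** -/
theorem inf_eq_bot {Ψ : Set (Fin l → ℤ)} (hP : Ψ ⊆ RGD.Pos cs hp.isCartan)
    (hΨ : ZCl cs hp.isCartan Ψ) {φ : (Fin l → ℤ) →+ ℤ} (hφ : ∀ a ∈ Ψ, 0 < φ a) {b : Fin l → ℤ} (hbΨ : b ∈ Ψ)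
    (hb : ∀ a ∈ Ψ, φ b ≤ φ a) : XX D l k b ⊓ RGD.Sup (XX D l k) (Ψ \ {b}) = ⊥ := by
  have := finite_W hp cs
  have H := tow (k := k) hp cs hk r
  rw [eq_bot_iff]
  rintro y ⟨h1, h2⟩
  rw [SetLike.mem_coe] at h1 h2
  rw [← XL_eq hp hk] at h1 h2
  obtain ⟨E1, h1'⟩ := H.mem_XL.1 h1
  obtain ⟨E2, h2'⟩ := H.mem_Sup.1 h2
  obtain ⟨E, a1, a2⟩ := H.dir E1 E2
  have h3 : y ∈ Xj hp E b := H.monoX b a1 h1'
  have h4 : y ∈ RGD.Sup (Xj hp E) (Ψ \ {b}) := H.mono_Sup _ a2 h2'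
  have h5 := Sup.inf_eq_bot (H.rgd E) (fun a ha => card_Xj hp cs E ha)
    (finite_Supj hp cs E (RGD.Pos cs hp.isCartan) fun a ha => ha.1) (zcomm_lev hp cs E) hP hΨ hφ hbΨ hb
  rw [← h5]
  exact ⟨h3, h4⟩

/-! ### consequences -/

section Cons

variable {Ψ : Set (Fin l → ℤ)} (hP : Ψ ⊆ RGD.Pos cs hp.isCartan) (hΨ : ZCl cs hp.isCartan Ψ)
  {φ : (Fin l → ℤ) →+ ℤ} (hφ : ∀ a ∈ Ψ, 0 < φ a)

theorem zcl_diff {O : Set (Fin l → ℤ)} (hΨ : ZCl cs hp.isCartan Ψ) (hφ : ∀ a ∈ Ψ, 0 < φ a)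
    (hO : ∀ b ∈ O, ∀ a ∈ Ψ, φ b ≤ φ a) : ZCl cs hp.isCartan (Ψ \ O) := by
  rintro x ⟨hx, hxb⟩ y ⟨hy, hyb⟩ z hz ⟨i, j, hi, hj, rfl⟩
  refine ⟨hΨ x hx y hy _ hz ⟨i, j, hi, hj, rfl⟩, fun e => ?_⟩
  have h1 := lt_comb (hφ x hx) (hφ y hy) hi hj
  exact absurd (hO _ e x hx) (not_le.2 h1)

include hk r hP hΨ hφ in
/-- **The intersection.** -/
theorem mem_of_forall {O : Set (Fin l → ℤ)} (hO : O ⊆ Ψ) (hOf : O.Finite) (hOm : ∀ b ∈ O, ∀ a ∈ Ψ, φ b ≤ φ a)
    {u : ↥(D.group k)} (hu : u ∈ RGD.Sup (XX D l k) Ψ) (h : ∀ b ∈ O, u ∈ RGD.Sup (XX D l k) (Ψ \ {b})) :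
    u ∈ RGD.Sup (XX D l k) (Ψ \ O) := by
  induction O, hOf using Set.Finite.induction_on with
  | empty => rwa [Set.sdiff_empty]
  | @insert b O hbO hOf ih =>
    have h1 := ih (fun x hx => hO (Set.mem_insert_of_mem b hx)) (fun x hx => hOm x (Set.mem_insert_of_mem b hx))
      (fun x hx => h x (Set.mem_insert_of_mem b hx))
    have hbΨ : b ∈ Ψ := hO (Set.mem_insert b O)
    have hsub : Ψ \ O ⊆ Ψ := Set.sdiff_subset
    have hcl : ZCl cs hp.isCartan (Ψ \ O) := zcl_diff hp cs hΨ hφ fun x hx => hOm x (Set.mem_insert_of_mem b hx)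
    obtain ⟨x, hx, v, hv, e⟩ := mem_peel (zcomm hp cs) (fun a ha => (hP (hsub ha)).1) hcl
      (fun a ha => hφ a (hsub ha)) (b := b) ⟨hbΨ, hbO⟩ (fun a ha => hOm b (Set.mem_insert b O) a (hsub ha)) h1
    have hv' : v ∈ RGD.Sup (XX D l k) (Ψ \ {b}) := RGD.Sup_mono (Set.sdiff_subset_sdiff_left hsub) hv
    have hx1 : x ∈ XX D l k b ⊓ RGD.Sup (XX D l k) (Ψ \ {b}) := by
      refine ⟨hx, ?_⟩
      have e1 : x = u * v⁻¹ := by rw [e]; group
      rw [e1]
      exact Subgroup.mul_mem _ (h b (Set.mem_insert b O)) (Subgroup.inv_mem _ hv')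
    rw [inf_eq_bot hp cs hk r hP hΨ hφ hbΨ (hOm b (Set.mem_insert b O)), Subgroup.mem_bot] at hx1
    rw [e, hx1, one_mul]
    have e2 : Ψ \ insert b O = (Ψ \ O) \ {b} := by
      ext x
      constructor
      · rintro ⟨h1, h2⟩
        exact ⟨⟨h1, fun h3 => h2 (Set.mem_insert_of_mem b h3)⟩, fun h3 => h2 (by
          rw [Set.mem_singleton_iff] at h3
          rw [h3]; exact Set.mem_insert b O)⟩
      · rintro ⟨⟨h1, h2⟩, h3⟩
        refine ⟨h1, fun h4 => ?_⟩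
        rcases h4 with h4 | h4
        · exact h3 h4
        · exact h2 h4
    rw [e2]
    exact hv

theorem XX_comm (cs : CoxeterSystem M W) {b : Fin l → ℤ} (hb : IsRoot cs hp.isCartan b) {x y : ↥(D.group k)}
    (hx : x ∈ XX D l k b) (hy : y ∈ XX D l k b) : x * y = y * x := by
  obtain ⟨s, hs, rfl⟩ := (isRoot_iff hp cs b).1 hb
  obtain ⟨t, rfl⟩ := (HX.mem_XX_xc hp hs).1 hx
  obtain ⟨t', rfl⟩ := (HX.mem_XX_xc hp hs).1 hy
  apply Subtype.ext
  rw [Subgroup.coe_mul, Subgroup.coe_mul, coe_xc hp hs, coe_xc hp hs, xG_add, xG_add, add_comm]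

include hP hΨ hφ in
/-- the quotient by `Sup X (Ψ \ {b})` is commutative -/
theorem comm_mem {b : Fin l → ℤ} (hbΨ : b ∈ Ψ) (hb : ∀ a ∈ Ψ, φ b ≤ φ a) {u v : ↥(D.group k)}
    (hu : u ∈ RGD.Sup (XX D l k) Ψ) (hv : v ∈ RGD.Sup (XX D l k) Ψ) :
    (v * u)⁻¹ * (u * v) ∈ RGD.Sup (XX D l k) (Ψ \ {b}) := by
  obtain ⟨x1, hx1, v1, hv1, rfl⟩ := mem_peel (zcomm hp cs) (fun a ha => (hP ha).1) hΨ hφ hbΨ hb hu
  obtain ⟨x2, hx2, v2, hv2, rfl⟩ := mem_peel (zcomm hp cs) (fun a ha => (hP ha).1) hΨ hφ hbΨ hb hv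
  have hn := le_normalizer (zcomm (k := k) hp cs) (fun a ha => (hP ha).1) hΨ hφ hbΨ hb
  have h1 : x2⁻¹ * v1 * x2 ∈ RGD.Sup (XX D l k) (Ψ \ {b}) := by
    have := (Subgroup.mem_normalizer_iff.1 (inv_mem (hn hx2)) v1).1 hv1
    rwa [inv_inv] at this
  have h2 : x1⁻¹ * v2 * x1 ∈ RGD.Sup (XX D l k) (Ψ \ {b}) := by
    have := (Subgroup.mem_normalizer_iff.1 (inv_mem (hn hx1)) v2).1 hv2
    rwa [inv_inv] at this
  have hc := XX_comm hp cs (hP hbΨ).1 hx1 hx2
  have e : (x2 * v2 * (x1 * v1))⁻¹ * (x1 * v1 * (x2 * v2)) =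
      (x1⁻¹ * v2 * x1 * v1)⁻¹ * ((x2 * x1)⁻¹ * (x1 * x2)) * (x2⁻¹ * v1 * x2 * v2) := by group
  rw [e, hc, inv_mul_cancel, mul_one]
  exact mul_mem (inv_mem (mul_mem h2 hv1)) (mul_mem h1 hv2)

end Cons

/-! ### the coordinate of the lowest root -/

section Coordinate

variable {Ψ : Set (Fin l → ℤ)} (hP : Ψ ⊆ RGD.Pos cs hp.isCartan) (hΨ : ZCl cs hp.isCartan Ψ)
  {φ : (Fin l → ℤ) →+ ℤ} (hφ : ∀ a ∈ Ψ, 0 < φ a) {b : Fin l → ℤ} (hbΨ : b ∈ Ψ) (hb : ∀ a ∈ Ψ, φ b ≤ φ a)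

theorem xc_add {b : Fin l → ℤ} (hb : IsRoot cs hp.isCartan b) (s t : k) :
    xc hp b (s + t) = xc hp b s * xc hp b t := by
  obtain ⟨j, hj, rfl⟩ := (isRoot_iff hp cs b).1 hb
  apply Subtype.ext
  rw [Subgroup.coe_mul, coe_xc hp hj, coe_xc hp hj, coe_xc hp hj, xG_add]

theorem xc_mem {b : Fin l → ℤ} (hb : IsRoot cs hp.isCartan b) (s : k) : xc hp b s ∈ XX D l k b := by
  obtain ⟨j, hj, rfl⟩ := (isRoot_iff hp cs b).1 hb
  exact (HX.mem_XX_xc hp hj).2 ⟨s, rfl⟩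

theorem exists_xc {b : Fin l → ℤ} (hb : IsRoot cs hp.isCartan b) {y : ↥(D.group k)} (hy : y ∈ XX D l k b) :
    ∃ s : k, y = xc hp b s := by
  obtain ⟨j, hj, rfl⟩ := (isRoot_iff hp cs b).1 hb
  exact (HX.mem_XX_xc hp hj).1 hy

theorem xc_injective {b : Fin l → ℤ} (hb : IsRoot cs hp.isCartan b) : Function.Injective (xc (K := k) hp b) := by
  obtain ⟨j, hj, rfl⟩ := (isRoot_iff hp cs b).1 hb
  exact xc_inj hp hj

include hP hΨ hφ hbΨ hb in
theorem exists_coord {u : ↥(D.group k)} (hu : u ∈ RGD.Sup (XX D l k) Ψ) :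
    ∃ t : k, (xc hp b t)⁻¹ * u ∈ RGD.Sup (XX D l k) (Ψ \ {b}) := by
  obtain ⟨x, hx, v, hv, rfl⟩ := mem_peel (zcomm hp cs) (fun a ha => (hP ha).1) hΨ hφ hbΨ hb hu
  obtain ⟨t, rfl⟩ := exists_xc hp cs (hP hbΨ).1 hx
  exact ⟨t, by rwa [inv_mul_cancel_left]⟩

include hk r hP hΨ hφ hbΨ hb in
theorem coord_unique {u : ↥(D.group k)} {t t' : k}
    (h1 : (xc hp b t)⁻¹ * u ∈ RGD.Sup (XX D l k) (Ψ \ {b}))
    (h2 : (xc hp b t')⁻¹ * u ∈ RGD.Sup (XX D l k) (Ψ \ {b})) : t = t' := by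
  have hbr := (hP hbΨ).1
  have h3 : (xc hp b t')⁻¹ * xc hp b t ∈ XX D l k b ⊓ RGD.Sup (XX D l k) (Ψ \ {b}) := by
    refine ⟨Subgroup.mul_mem _ (Subgroup.inv_mem _ (xc_mem hp cs hbr t')) (xc_mem hp cs hbr t), ?_⟩
    have e : (xc hp b t')⁻¹ * xc hp b t = ((xc hp b t')⁻¹ * u) * ((xc hp b t)⁻¹ * u)⁻¹ := by group
    rw [e]
    exact Subgroup.mul_mem _ h2 (Subgroup.inv_mem _ h1)
  rw [inf_eq_bot hp cs hk r hP hΨ hφ hbΨ hb, Subgroup.mem_bot, inv_mul_eq_one] at h3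
  exact (xc_injective hp cs hbr h3).symm

include hP hΨ hφ hbΨ hb in
theorem coord_mul {u v : ↥(D.group k)} {t t' : k} (h1 : (xc hp b t)⁻¹ * u ∈ RGD.Sup (XX D l k) (Ψ \ {b}))
    (h2 : (xc hp b t')⁻¹ * v ∈ RGD.Sup (XX D l k) (Ψ \ {b})) :
    (xc hp b (t + t'))⁻¹ * (u * v) ∈ RGD.Sup (XX D l k) (Ψ \ {b}) := by
  have hbr := (hP hbΨ).1
  have hn := le_normalizer (zcomm (k := k) hp cs) (fun a ha => (hP ha).1) hΨ hφ hbΨ hb
  have h3 := (Subgroup.mem_normalizer_iff.1 (inv_mem (hn (xc_mem hp cs hbr t'))) _).1 h1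
  rw [inv_inv] at h3
  have e : (xc hp b (t + t'))⁻¹ * (u * v) =
      ((xc hp b t')⁻¹ * ((xc hp b t)⁻¹ * u) * xc hp b t') * ((xc hp b t')⁻¹ * v) := by
    rw [xc_add hp cs hbr]; group
  rw [e]
  exact mul_mem h3 h2

end Coordinate

/-! ### the fixed points -/

section Fixed

variable {cs} {e : ℕ} {τ : MulAut ↥(D.group k)} {g : (Fin l → ℤ) ≃+ (Fin l → ℤ)}

/-- the functional `fh` -/
def fhHom (g : (Fin l → ℤ) ≃+ (Fin l → ℤ)) (N : ℕ) : (Fin l → ℤ) →+ ℤ :=
  AddMonoidHom.mk' (fh g N) fun a b => by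
    have := fh_comb (g := g) N 1 1 a b
    rw [one_smul, one_smul, Nat.cast_one, one_mul, one_mul] at this
    exact this

theorem fhHom_apply (N : ℕ) (a : Fin l → ℤ) : fhHom g N a = fh g N a := rfl

variable {hp}

theorem iter_iff (F : Fr cs hp.isCartan (TT D k) (XX D l k) τ g) {Ψ : Set (Fin l → ℤ)}
    (hr : ∀ a ∈ Ψ, IsRoot cs hp.isCartan a) (hg : ∀ a ∈ Ψ, g a ∈ Ψ) [Finite W] (a : Fin l → ℤ) :
    g a ∈ Ψ ↔ a ∈ Ψ := by
  refine ⟨fun h => ?_, hg a⟩
  obtain ⟨N, hN, hNg⟩ := exists_period F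
  have h1 : ∀ i, g^[i] (g a) ∈ Ψ := by
    intro i
    induction i with
    | zero => exact h
    | succ i ih => rw [Function.iterate_succ_apply']; exact hg _ ih
  obtain ⟨n, rfl⟩ := Nat.exists_eq_succ_of_ne_zero hN.ne'
  have h2 := hNg a ((F.root a).1 (hr _ h))
  rw [Nat.succ_eq_add_one, Function.iterate_succ_apply] at h2
  rw [← h2]
  exact h1 n

include hk in
/-- **The order of the group of fixed points.** -/
theorem card_fix [IsAlgClosed k] (he : 0 < e) (hτ : IsFrob r e τ)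
    (F : Fr cs hp.isCartan (TT D k) (XX D l k) τ g) {Ψ : Set (Fin l → ℤ)}
    (hP : Ψ ⊆ RGD.Pos cs hp.isCartan) (hΨ : ZCl cs hp.isCartan Ψ) (hg : ∀ a ∈ Ψ, g a ∈ Ψ) :
    Nat.card ↥(RGD.Sup (XX D l k) Ψ ⊓ fixedSubgroup τ) = (r ^ e) ^ Ψ.ncard := by
  have := finite_W hp cs
  have hroots : (RGD.Pos cs hp.isCartan).Finite :=
    (RGD.finite_roots (cs := cs) (h := hp.isCartan)).subset fun a ha => ha.1
  obtain ⟨N, hN, hNg⟩ := exists_period F
  induction hn : Ψ.ncard using Nat.strong_induction_on generalizing Ψ with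
  | _ n ih =>
  have hΨf : Ψ.Finite := hroots.subset hP
  rcases Ψ.eq_empty_or_nonempty with h0 | hne
  · have h2 : RGD.Sup (XX D l k) Ψ = ⊥ := by
      rw [eq_bot_iff]
      refine RGD.Sup_le fun z hz => ?_
      rw [h0] at hz
      exact absurd hz (Set.notMem_empty z)
    rw [h2, bot_inf_eq, Subgroup.card_bot, ← hn, h0, Set.ncard_empty, pow_zero]
  -- the functional
  have hit : ∀ a ∈ Ψ, ∀ i, g^[i] a ∈ Ψ := by
    intro a ha i
    induction i with
    | zero => exact ha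
    | succ i ih => rw [Function.iterate_succ_apply']; exact hg _ ih
  set φ := fhHom g N with hφdef
  have hφ : ∀ a ∈ Ψ, 0 < φ a := by
    intro a ha
    rw [hφdef, fhHom_apply]
    refine Finset.sum_pos (fun i _ => ?_) ⟨0, Finset.mem_range.2 hN⟩
    have := hP (hit a ha i)
    exact RGD.ht_pos this.1 this.2
  obtain ⟨a, ha, hmin⟩ := exists_min hΨf hne φ
  have har := (hP ha).1
  have hφit : ∀ i, φ (g^[i] a) = φ a := by
    intro i
    induction i with
    | zero => rfl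
    | succ i ih =>
      rw [Function.iterate_succ_apply', ← ih, hφdef, fhHom_apply, fhHom_apply]
      exact fh_g (hNg _ (hP (hit a ha i)).1)
  -- the orbit
  have hper : 0 < Function.minimalPeriod g a :=
    Function.minimalPeriod_pos_of_mem_periodicPts ⟨N, hN, hNg a har⟩
  set m := Function.minimalPeriod g a with hm
  have hga : g^[m] a = a := Function.iterate_minimalPeriod
  set O : Set (Fin l → ℤ) := (fun i => g^[i] a) '' (Set.Iio m) with hO
  have hOΨ : O ⊆ Ψ := by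
    rintro _ ⟨i, -, rfl⟩
    exact hit a ha i
  have hOf : O.Finite := hΨf.subset hOΨ
  have hOm : ∀ b ∈ O, ∀ a' ∈ Ψ, φ b ≤ φ a' := by
    rintro _ ⟨i, -, rfl⟩ a' ha'
    show φ (g^[i] a) ≤ φ a'
    rw [hφit]
    exact hmin a' ha'
  have hOc : O.ncard = m := by
    rw [hO, Set.InjOn.ncard_image, Set.ncard_eq_toFinset_card', Set.toFinset_Iio, Nat.card_Iio]
    intro i hi j hj hij
    exact (Function.iterate_eq_iterate_iff_of_lt_minimalPeriod hi hj).1 hij
  have hmem : ∀ i, g^[i] a ∈ O := by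
    intro i
    refine ⟨i % m, Nat.mod_lt _ hper, ?_⟩
    exact Function.iterate_mod_minimalPeriod_eq
  have hgO : ∀ x, g x ∈ O → x ∈ O := by
    rintro x ⟨i, -, hi⟩
    have h1 : g^[i] a = g x := hi
    rcases Nat.eq_zero_or_pos i with h2 | h2
    · rw [h2, Function.iterate_zero, id_eq] at h1
      obtain ⟨m', hm'⟩ := Nat.exists_eq_succ_of_ne_zero hper.ne'
      rw [← hga, hm', Nat.succ_eq_add_one, Function.iterate_succ_apply'] at h1
      rw [← g.injective h1]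
      exact hmem m'
    · obtain ⟨i', rfl⟩ := Nat.exists_eq_succ_of_ne_zero h2.ne'
      rw [Nat.succ_eq_add_one, Function.iterate_succ_apply'] at h1
      rw [← g.injective h1]
      exact hmem i'
  have hP' : Ψ \ O ⊆ RGD.Pos cs hp.isCartan := Set.sdiff_subset.trans hP
  have hΨ' : ZCl cs hp.isCartan (Ψ \ O) := zcl_diff hp cs hΨ hφ hOm
  have hg' : ∀ x ∈ Ψ \ O, g x ∈ Ψ \ O := fun x hx => ⟨hg x hx.1, fun h => hx.2 (hgO x h)⟩
  have hcard' : (Ψ \ O).ncard + m = n := by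
    rw [← hn, ← hOc]
    exact Set.ncard_sdiff_add_ncard_of_subset hOΨ hΨf
  have hih := ih (Ψ \ O).ncard (by omega) hP' hΨ' hg' rfl
  -- the coordinate
  set U := RGD.Sup (XX D l k) Ψ with hU
  have hex : ∀ u : ↥(U ⊓ fixedSubgroup τ), ∃ t : k, (xc hp a t)⁻¹ * (u : ↥(D.group k)) ∈
      RGD.Sup (XX D l k) (Ψ \ {a}) := fun u => exists_coord hp cs hP hΨ hφ ha hmin u.2.1
  choose κ hκ using hex
  let f : ↥(U ⊓ fixedSubgroup τ) →* Multiplicative k := MonoidHom.mk' (fun u => Multiplicative.ofAdd (κ u)) (by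
    intro u v
    rw [← ofAdd_add]
    congr 1
    exact coord_unique hp cs hk r hP hΨ hφ ha hmin (hκ (u * v)) (coord_mul hp cs hP hΨ hφ ha hmin (hκ u) (hκ v)))
  have hf : ∀ u, f u = Multiplicative.ofAdd (κ u) := fun u => rfl
  obtain ⟨gm, Fm, hgm⟩ := F.pow m
  have hτm := hτ.pow m
  obtain ⟨c, hc0, hc⟩ := HX.fr_xc hp cs hτm Fm har
  rw [hgm a, hga] at hc
  have hfix : ∀ (i : ℕ) (u : ↥(D.group k)), τ u = u → (τ ^ i) u = u := by
    intro i u hu
    induction i with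
    | zero => rw [pow_zero]; rfl
    | succ i ih => rw [pow_succ', MulAut.mul_apply, ih, hu]
  have hpowmem : ∀ (i : ℕ) (u : ↥(D.group k)), u ∈ RGD.Sup (XX D l k) (Ψ \ {a}) →
      (τ ^ i) u ∈ RGD.Sup (XX D l k) (Ψ \ {g^[i] a}) := by
    intro i u hu
    obtain ⟨gi, Fi, hgi⟩ := F.pow i
    refine (Fi.mem_Sup (S := Ψ \ {a}) (S' := Ψ \ {g^[i] a}) (fun x hx => (hP hx.1).1) (fun x => ?_) u).2 hu
    rw [hgi x]
    have h1 : g^[i] x ∈ Ψ ↔ x ∈ Ψ := by
      clear hgi Fi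
      induction i with
      | zero => exact Iff.rfl
      | succ i ih => rw [Function.iterate_succ_apply', iter_iff (hp := hp) F (fun a ha => (hP ha).1) hg, ih]
    constructor
    · rintro ⟨h2, h3⟩
      refine ⟨h1.1 h2, fun h4 => h3 ?_⟩
      rw [Set.mem_singleton_iff] at h4 ⊢
      rw [h4]
    · rintro ⟨h2, h3⟩
      refine ⟨h1.2 h2, fun h4 => h3 ?_⟩
      rw [Set.mem_singleton_iff] at h4 ⊢
      exact (g.injective.iterate i) h4
  -- the kernel
  have hker : Nat.card ↥f.ker = (r ^ e) ^ (Ψ \ O).ncard := by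
    rw [← hih]
    refine Nat.card_congr (Equiv.ofBijective (fun u : ↥f.ker => (⟨(u : ↥(U ⊓ fixedSubgroup τ)), ?_⟩ :
      ↥(RGD.Sup (XX D l k) (Ψ \ O) ⊓ fixedSubgroup τ))) ⟨?_, ?_⟩)
    · refine Subgroup.mem_inf.2 ⟨?_, u.1.2.2⟩
      refine mem_of_forall hp cs hk r hP hΨ hφ hOΨ hOf hOm u.1.2.1 ?_
      rintro _ ⟨i, -, rfl⟩
      have h1 : κ u.1 = 0 := by
        have h2 : f u.1 = 1 := u.2
        rw [hf] at h2
        exact Multiplicative.ofAdd.injective h2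
      have h2 := hκ u.1
      have h3 : xc hp a (0 : k) = 1 := by
        have := xc_add hp cs har (0 : k) 0
        rw [add_zero, left_eq_mul] at this
        exact this
      rw [h1, h3, inv_one, one_mul] at h2
      have h4 := hpowmem i _ h2
      rwa [hfix i _ u.1.2.2] at h4
    · intro u v huv
      apply Subtype.ext
      apply Subtype.ext
      exact congrArg (fun z : ↥(RGD.Sup (XX D l k) (Ψ \ O) ⊓ fixedSubgroup τ) => (z : ↥(D.group k))) huv
    · rintro ⟨u, hu⟩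
      have hu1 : u ∈ U := RGD.Sup_mono Set.sdiff_subset hu.1
      refine ⟨⟨⟨u, hu1, hu.2⟩, ?_⟩, rfl⟩
      rw [MonoidHom.mem_ker, hf, ← ofAdd_zero]
      congr 1
      refine coord_unique hp cs hk r hP hΨ hφ ha hmin (hκ _) ?_
      have h3 : xc hp a (0 : k) = 1 := by
        have := xc_add hp cs har (0 : k) 0
        rw [add_zero, left_eq_mul] at this
        exact this
      rw [h3, inv_one, one_mul]
      refine RGD.Sup_mono (S := Ψ \ O) (S' := Ψ \ {a}) (fun x hx => ⟨hx.1, fun h => hx.2 ?_⟩) hu.1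
      rw [Set.mem_singleton_iff] at h
      rw [h]
      exact hmem 0
  -- the range
  have hrange : Nat.card ↥f.range = r ^ (m * e) := by
    rw [← card_twist (k := k) (r := r) (s := m * e) (Nat.mul_pos hper he) hc0]
    symm
    refine Nat.card_congr (Equiv.ofBijective (fun t : {t : k // c * t ^ r ^ (m * e) = t} =>
      (⟨Multiplicative.ofAdd t.1, ?_⟩ : ↥f.range)) ⟨?_, ?_⟩)
    · obtain ⟨t, ht⟩ := t
      -- the element
      have hy : (τ ^ m) (xc hp a t) = xc hp a t := by rw [hc, ht]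
      have hyU : ∀ i, (τ ^ i) (xc hp a t) ∈ XX D l k (g^[i] a) := by
        intro i
        obtain ⟨gi, Fi, hgi⟩ := F.pow i
        rw [← hgi a]
        exact (Fi.map a har _).2 (xc_mem hp cs har t)
      have hyU' : ∀ i, (τ ^ i) (xc hp a t) ∈ U := fun i => RGD.le_Sup (hit a ha i) (hyU i)
      set u0 := _root_.Cfsg.Agent.BpExc.NInst.op τ (xc hp a t) m with hu0
      have hu0U : u0 ∈ U := op_mem fun j _ => hyU' j
      have hτu0 : τ u0 = (xc hp a t)⁻¹ * (u0 * xc hp a t) := by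
        have h1 := op_succ τ (xc hp a t) m
        have h2 := op_succ' τ (xc hp a t) m
        rw [h1, hy] at h2
        rw [hu0, h2]; group
      have hdef : u0⁻¹ * τ u0 ∈ RGD.Sup (XX D l k) (Ψ \ O) := by
        rw [hτu0]
        have e1 : u0⁻¹ * ((xc hp a t)⁻¹ * (u0 * xc hp a t)) = (xc hp a t * u0)⁻¹ * (u0 * xc hp a t) := by group
        rw [e1]
        refine mem_of_forall hp cs hk r hP hΨ hφ hOΨ hOf hOm ?_ fun b hb =>
          comm_mem hp cs hP hΨ hφ (hOΨ hb) (hOm b hb) hu0U (hyU' 0)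
        exact Subgroup.mul_mem _ (Subgroup.inv_mem _ (Subgroup.mul_mem _ (hyU' 0) hu0U)) (Subgroup.mul_mem _ hu0U (hyU' 0))
      obtain ⟨y, hy', ey⟩ := lang_fr hp cs he hτ F (S := Ψ \ O) (fun x hx => (hP' hx).1) hg' hdef
      have hfx : τ (u0 * y⁻¹) = u0 * y⁻¹ := by
        rw [map_mul, map_inv]
        have h1 : τ u0 = u0 * (y⁻¹ * τ y) := by rw [← ey]; group
        rw [h1]; group
      have hyΨ : y ∈ U := RGD.Sup_mono Set.sdiff_subset hy'
      refine ⟨⟨u0 * y⁻¹, Subgroup.mul_mem _ hu0U (Subgroup.inv_mem _ hyΨ), hfx⟩, ?_⟩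
      rw [hf]
      congr 1
      refine coord_unique hp cs hk r hP hΨ hφ ha hmin (hκ _) ?_
      have hsub : RGD.Sup (XX D l k) (Ψ \ O) ≤ RGD.Sup (XX D l k) (Ψ \ {a}) :=
        RGD.Sup_mono (S := Ψ \ O) (S' := Ψ \ {a}) fun x hx => ⟨hx.1, fun h => hx.2 (by
          rw [Set.mem_singleton_iff] at h
          rw [h]
          exact hmem 0)⟩
      show (xc hp a t)⁻¹ * (u0 * y⁻¹) ∈ _
      rw [← mul_assoc]
      refine mul_mem ?_ (inv_mem (hsub hy'))
      obtain ⟨m', hm'⟩ := Nat.exists_eq_succ_of_ne_zero hper.ne'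
      have h5 : ∀ j < m, (xc hp a t)⁻¹ * _root_.Cfsg.Agent.BpExc.NInst.op τ (xc hp a t) (j + 1) ∈ RGD.Sup (XX D l k) (Ψ \ {a}) := by
        intro j
        induction j with
        | zero =>
          intro _
          rw [op_succ]
          have h6 : _root_.Cfsg.Agent.BpExc.NInst.op τ (xc hp a t) 0 = 1 := rfl
          rw [h6, pow_zero, one_mul]
          show (xc hp a t)⁻¹ * xc hp a t ∈ _
          rw [inv_mul_cancel]
          exact one_mem _
        | succ j ihj =>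
          intro hj
          rw [op_succ, ← mul_assoc]
          refine mul_mem (ihj (by omega)) ?_
          refine RGD.le_Sup (S := Ψ \ {a}) ⟨hit a ha _, fun h => ?_⟩ (hyU (j + 1))
          rw [Set.mem_singleton_iff] at h
          have h7 := Function.IsPeriodicPt.minimalPeriod_le (Nat.succ_pos j)
            (show Function.IsPeriodicPt g (j + 1) a from h)
          omega
      have h6 := h5 m' (by omega)
      rw [hu0, hm']
      exact h6
    · intro t t' htt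
      apply Subtype.ext
      exact Multiplicative.ofAdd.injective (congrArg (fun z : ↥f.range => (z : Multiplicative k)) htt)
    · rintro ⟨_, u, rfl⟩
      refine ⟨⟨κ u, ?_⟩, Subtype.ext (hf u).symm⟩
      refine coord_unique hp cs hk r hP hΨ hφ ha hmin (u := (u : ↥(D.group k))) ?_ (hκ u)
      have h1 := hpowmem m _ (hκ u)
      rw [hga, map_mul, map_inv, hc, hfix m _ u.2.2] at h1
      exact h1
  have hfinal : Nat.card ↥(U ⊓ fixedSubgroup τ) = Nat.card ↥f.ker * Nat.card ↥f.range := by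
    rw [← Subgroup.index_ker f, Subgroup.card_mul_index]
  rw [hfinal, hker, hrange, ← hcard', mul_comm m e, pow_add, pow_mul r e m]

end Fixed

end Cfsg.Agent.H461.E2.Fix
end
end

-- part: H461/E2/Cent
section
prune_inst 0xd0000700440000000000000000003c42a0000400004b00014040000004884e000000062018000200000088400039004000440009401000000a00020040000000002002029208a100200000803800000000000000000000000000000000000000000000000
set_option linter.all false
open scoped Cfsg.Agent.FastGrp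

/-!
# The `r`-part of the centralisers of the elements of prime order (S4880, E2)

* `card_fixC` : `(Nat.card (fixC τ t)).factorization r = e * |{a > 0 : χ_a(t) = 1}|` for a frame automorphism `τ`
  fixing `t ∈ TT` (of prime order `≠ r`) and preserving the positive roots of `Sx t`;
* `card_centralizer` (`Setup`) : `(Nat.card (C_G(x))).factorization r = e * |{a > 0 : χ_a(t) = 1}|`, `z⁻¹ f(x) z = t ∈ TT`;
* `ncard_eq` : if `Aut G` is transitive on the elements of order `p`, the number of the roots trivial on `x` is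
  the same for all `x` of order `p`.
-/

set_option autoImplicit false
set_option linter.unusedSectionVars false

namespace Cfsg.Agent.H461.E2.Cent

open CoxeterSystem Cfsg Cfsg.Lie Cfsg.Lie.ChevalleyDatum
open Cfsg.Agent.ChevalleyStructure Cfsg.Agent.ChevalleyStructure.Elts Cfsg.Agent.ChevalleyStructure.CoxeterGeom
  Cfsg.Agent.ChevalleyStructure.CoxeterGeomTypes Cfsg.Agent.ChevalleyStructure.NPerm
open Cfsg.Agent.Tits.Roots Cfsg.Agent.Tits.Core Cfsg.Agent.Nodes Cfsg.Agent.Nodes.Reps Cfsg.Agent.Nodes.BNOf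
  Cfsg.Agent.Nodes.RGDChev Cfsg.Agent.Nodes.Bruhat Cfsg.Agent.Nodes.NormalForm
open Cfsg.Agent.KFacts.RgdField Cfsg.Agent.KFacts.RgdChevCoord
open Cfsg.Agent.BpExc Cfsg.Agent.BpExc.TorCent Cfsg.Agent.BpExc.TorChev Cfsg.Agent.BpExc.Tow
  Cfsg.Agent.BpExc.TowChev Cfsg.Agent.BpExc.Fr Cfsg.Agent.BpExc.Pair Cfsg.Agent.BpExc.LangFr Cfsg.Agent.GpExc.Field
  Cfsg.Agent.BpExc.NInst Cfsg.Agent.BpExc.NChev Cfsg.Agent.H461.E2.Sup Cfsg.Agent.H461.E2.Fix
open scoped commutatorElement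

universe u v

section

variable {D : ChevalleyDatum} {l : ℕ} {M : CoxeterMatrix (Fin l)} (hp : IsType D l M) {k : Type u} [Field k]
  {W : Type*} [Group W] (cs : CoxeterSystem M W)

/-- **The Sylow `r`-subgroup of `fixC τ t`.** -/
theorem exists_sylow [IsAlgClosed k] (hk : LocFin k) {r e q : ℕ} [Fact r.Prime] [CharP k r] (hq : q.Prime)
    (hqr : q ≠ r) {t : ↥(D.group k)} (ht : t ∈ TT D k) (htq : t ^ q = 1) (he : 0 < e) {τ : MulAut ↥(D.group k)}
    (hτ : IsFrob r e τ) {g : (Fin l → ℤ) ≃+ (Fin l → ℤ)} (F : Fr cs hp.isCartan (TT D k) (XX D l k) τ g)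
    (hτt : τ t = t) (hpos : ∀ a ∈ Sx cs hp.isCartan (ch hp) t, 0 ≤ a → 0 ≤ g a) [Finite ↥(fixC τ t)] :
    ∃ (E : Lev k) (P : Sylow r ↥(fixC τ t)), (P : Subgroup ↥(fixC τ t)) =
      (RGD.Sup (Xj hp E) (SP (Sx cs hp.isCartan (ch hp) t))).subgroupOf (fixC τ t) := by
  have := finite_W hp cs
  have H := tow (k := k) hp cs hk r
  have C := coordsL (k := k) hp cs hk r
  have hA := chAddL (k := k) hp cs hk r
  have hG := GG_eq_top (k := k) hp cs hk
  have hTL := TL_eq (k := k) hp hk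
  have hXL := XL_eq (k := k) hp hk
  have F' : Fr cs hp.isCartan (TL (Tj hp (k := k))) (XL (Xj hp (k := k))) τ g := by rw [hTL, hXL]; exact F
  have hsep : ∀ a, IsRoot cs hp.isCartan a → ∃ s ∈ TL (Tj hp (k := k)), ∀ u ∈ XL (Xj hp (k := k)) a,
      u * s = s * u → u = 1 := by
    rw [hTL, hXL]
    exact fun a ha => sep hp cs hk r ha
  -- the level
  obtain ⟨E1, hE1⟩ := HX.fr_level hp cs hk hτ F
  obtain ⟨E2, hE2⟩ := HX.exists_fixed_level hp cs hk he hτ F
  obtain ⟨E3, hE3⟩ := exists_TT hp hk ht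
  obtain ⟨E4, hE4⟩ := exists_level_finite hp hk (S := (fixC τ t : Set ↥(D.group k))) (Set.toFinite _)
  obtain ⟨E5, a1, a2⟩ := dir_lev hk E1 E2
  obtain ⟨E6, a3, a4⟩ := dir_lev hk E3 E4
  obtain ⟨E, b1, b2⟩ := dir_lev hk E5 E6
  have FE := hE1 E (a1.trans b1)
  have hX : ∀ a, Xj hp E a ≤ XX D l k a := fun a => by rw [← hXL]; exact le_XL E a
  have hT : Tj hp E ≤ TT D k := by rw [← hTL]; exact le_TL E
  obtain ⟨t', ht', htt⟩ := hE3 E (a3.trans b2)
  have htE : t ∈ Tj hp E := ⟨t', ht', htt⟩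
  have Dt : Dat (H.rgd E) t (Sx cs hp.isCartan (ch hp) t) τ g :=
    { mem := htE
      root := fun a ha => ha.1
      neg := fun a ha => chi_neg C ht hA ha
      cent := fun a ha => (hX a).trans (X_le_centralizer C ht ha)
      of_cent := fun a ha u hu hu1 hc => mem_Sx_of_centralizer C ht ha (hX a hu) hu1 hc
      fr := FE
      fix := hτt
      pos := hpos
      rp := fun w kk hkk => by
        obtain ⟨w', hw'⟩ := rp_fr H hG hsep F' (H.rp_up hkk)
        obtain ⟨k0, h0, h0'⟩ := H.exists_rp w'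
        have h1 : k0⁻¹ * τ kk ∈ TT D k := by
          rw [← hTL]
          exact h0'.unique hw'
        have h2 : k0⁻¹ * τ kk ∈ (emb hp.inList E.1.subtype).range := by
          rw [← GGj_eq hp cs]
          refine mul_mem (inv_mem ?_) (fr_GG FE ?_)
          · exact (mem_GG (H.rgd E)).2 ⟨w', cell_of_rp (h0 E)⟩
          · exact (mem_GG (H.rgd E)).2 ⟨w, cell_of_rp hkk⟩
        have h3 : k0⁻¹ * τ kk ∈ Tj hp E := (HX.mem_Tj hp cs hk r).2 ⟨h1, h2⟩
        have e : τ kk = k0 * (k0⁻¹ * τ kk) := by group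
        exact ⟨w', by rw [e]; exact (h0 E).mul_mem_right h3⟩
      comm := fun x hx y hy hxy hxy' a ha b hb => by
        have h1 := CommZ.comm_mem_Zj hp cs E hx.1 hy.1 hxy hxy' ha hb
        refine RGD.Sup_mono (S := CommZ.combZ cs hp x y) ?_ h1
        rintro z ⟨hz, i, j, hi, hj, e⟩
        obtain ⟨φ, h0, hadd, hφ⟩ := hA t ht
        have hn : ∀ (i : ℕ) (x : Fin l → ℤ), φ (i • x) = φ x ^ i := by
          intro i x
          induction i with
          | zero => rw [zero_smul, pow_zero, h0]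
          | succ i ih => rw [succ_nsmul, hadd, ih, pow_succ]
        refine ⟨⟨hz, ?_⟩, i, j, hi, hj, e⟩
        rw [hφ z hz, e, hadd, hn, hn, ← hφ x hx.1, ← hφ y hy.1, hx.2, hy.2, one_pow, one_pow, one_mul]
      fixed := fun a ha => hE2 E (a2.trans b1) a ha.1
      le := fun y hy => by
        rw [GGj_eq hp cs]
        exact hE4 E (a4.trans b2) hy }
  have C' : Coords cs hp.isCartan (TL (Tj hp (k := k))) (nc hp k) (XL (Xj hp (k := k))) (xc hp) (ch hp) := by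
    rw [hTL, hXL]; exact C
  have ht' : t ∈ TL (Tj hp (k := k)) := by rw [hTL]; exact ht
  have hchi : ∀ a, IsRoot cs hp.isCartan a → ch hp a t ^ q = 1 := by
    intro a ha
    have h0 : ch hp a (1 : ↥(D.group k)) = 1 := by
      have h1 := (C.coord a ha).chi_mul (one_mem (TT D k)) (one_mem _)
      rw [mul_one] at h1
      exact (mul_eq_left₀ ((C.coord a ha).chi_ne_zero (one_mem _))).1 h1.symm
    have h1 : ∀ m : ℕ, ch hp a (t ^ m) = ch hp a t ^ m := by
      intro m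
      induction m with
      | zero => rw [pow_zero, pow_zero, h0]
      | succ m ih => rw [pow_succ, pow_succ, (C.coord a ha).chi_mul (pow_mem ht m) ht, ih]
    rw [← h1, htq, h0]
  have hPP : ∀ w kk, Rp cs (H.rgd E).nsys w kk → kk ∈ Subgroup.centralizer {t} →
      (∀ a ∈ Sx cs hp.isCartan (ch hp) t, 0 ≤ a → 0 ≤ rep cs hp.isCartan w a) →
      w ∈ PP cs hp.isCartan (ch hp) t := by
    refine fun w kk hkk hkt hw => ⟨fun a ha => ?_, hw⟩
    have h1 := C'.chi_rp H.nsys (H.rp_up hkk) ha ht'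
    have h2 : kk * t * kk⁻¹ = t := by rw [Subgroup.mem_centralizer_singleton_iff.1 hkt]; group
    rwa [h2] at h1
  obtain ⟨⟨P, hP⟩, -⟩ := Dt.main (fun a ha b hb => TT_comm hp a (hT ha) b (hT hb)) hq hqr
    (PP cs hp.isCartan (ch hp) t) (isPGroup_PP hA ht hq hchi) hPP
  exact ⟨E, P, hP⟩

/-- the roots trivial on `t` are closed under integral combinations -/
theorem zcl_Sx {r : ℕ} [Fact r.Prime] [CharP k r] (hk : LocFin k) {t : ↥(D.group k)} (ht : t ∈ TT D k) :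
    ZCl cs hp.isCartan (SP (Sx cs hp.isCartan (ch hp) t)) := by
  have hA := chAddL (k := k) hp cs hk r
  rintro x ⟨hx, hx0⟩ y ⟨hy, hy0⟩ z hz ⟨i, j, hi, hj, e⟩
  obtain ⟨φ, h0, hadd, hφ⟩ := hA t ht
  have hn : ∀ (i : ℕ) (x : Fin l → ℤ), φ (i • x) = φ x ^ i := by
    intro i x
    induction i with
    | zero => rw [zero_smul, pow_zero, h0]
    | succ i ih => rw [succ_nsmul, hadd, ih, pow_succ]
  refine ⟨⟨hz, ?_⟩, ?_⟩
  · rw [hφ z hz, e, hadd, hn, hn, ← hφ x hx.1, ← hφ y hy.1, hx.2, hy.2, one_pow, one_pow, one_mul]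
  · rw [e]
    exact add_nonneg (nsmul_nonneg hx0 i) (nsmul_nonneg hy0 j)

/-- **The `r`-part of `fixC τ t`.** -/
theorem card_fixC [IsAlgClosed k] (hk : LocFin k) {r e q : ℕ} [Fact r.Prime] [CharP k r] (hq : q.Prime)
    (hqr : q ≠ r) {t : ↥(D.group k)} (ht : t ∈ TT D k) (htq : t ^ q = 1) (he : 0 < e) {τ : MulAut ↥(D.group k)}
    (hτ : IsFrob r e τ) {g : (Fin l → ℤ) ≃+ (Fin l → ℤ)} (F : Fr cs hp.isCartan (TT D k) (XX D l k) τ g)
    (hτt : τ t = t) (hpos : ∀ a ∈ Sx cs hp.isCartan (ch hp) t, 0 ≤ a → 0 ≤ g a) [Finite ↥(fixC τ t)] :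
    (Nat.card ↥(fixC τ t)).factorization r = e * (SP (Sx cs hp.isCartan (ch hp) t)).ncard := by
  have C := coordsL (k := k) hp cs hk r
  have hTL := TL_eq (k := k) hp hk
  have hXL := XL_eq (k := k) hp hk
  obtain ⟨E, P, hP⟩ := exists_sylow hp cs hk hq hqr ht htq he hτ F hτt hpos
  set Ψ := SP (Sx cs hp.isCartan (ch hp) t) with hΨ
  have hFS : ∀ a, g a ∈ Sx cs hp.isCartan (ch hp) t ↔ a ∈ Sx cs hp.isCartan (ch hp) t := by
    have C' : Coords cs hp.isCartan (TL (Tj hp (k := k))) (nc hp k) (XL (Xj hp (k := k))) (xc hp) (ch hp) := by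
      rw [hTL, hXL]; exact C
    have F' : Fr cs hp.isCartan (TL (Tj hp (k := k))) (XL (Xj hp (k := k))) τ g := by rw [hTL, hXL]; exact F
    exact fun a => F'.mem_Sx C' (by rw [hTL]; exact ht) hτt a
  have hcard := card_fix (hp := hp) (cs := cs) hk r he hτ F (Ψ := Ψ) (fun a ha => ⟨ha.1.1, ha.2⟩)
    (zcl_Sx (r := r) hp cs hk ht) (fun a ha => ⟨(hFS a).2 ha.1, hpos a ha.1 ha.2⟩)
  set V := RGD.Sup (XX D l k) Ψ ⊓ fixedSubgroup τ with hV
  have hVC : V ≤ fixC τ t := by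
    intro u hu
    refine mem_fixC.2 ⟨hu.2, Subgroup.mem_centralizer_singleton_iff.1 ?_⟩
    have h1 : RGD.Sup (XX D l k) Ψ ≤ Subgroup.centralizer {t} :=
      RGD.Sup_le fun a ha => X_le_centralizer C ht ha.1
    exact h1 hu.1
  have hVp : IsPGroup r ↥(V.subgroupOf (fixC τ t)) := by
    have h1 : IsPGroup r ↥V := IsPGroup.of_card (n := e * Ψ.ncard) (by rw [hcard, ← pow_mul])
    exact h1.comap_subtype
  have hPV : (P : Subgroup ↥(fixC τ t)) ≤ V.subgroupOf (fixC τ t) := by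
    rw [hP]
    intro y hy
    rw [Subgroup.mem_subgroupOf] at hy ⊢
    have h1 : (y : ↥(D.group k)) ∈ RGD.Sup (XX D l k) Ψ := by
      have h2 := Sup_le_SupL E Ψ hy
      rwa [hXL] at h2
    exact ⟨h1, (mem_fixC.1 y.2).1⟩
  have hPV' : V.subgroupOf (fixC τ t) = (P : Subgroup ↥(fixC τ t)) := P.3 hVp hPV
  have hc : Nat.card ↥(P : Subgroup ↥(fixC τ t)) = r ^ (e * Ψ.ncard) := by
    rw [← hPV', pow_mul, ← hcard]
    exact Nat.card_congr (Subgroup.subgroupOfEquivOfLe hVC).toEquiv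
  rw [Sylow.card_eq_multiplicity] at hc
  exact Nat.pow_right_injective (Fact.out : r.Prime).two_le hc

/-- The number of the roots trivial on `t` is twice the number of the positive ones. -/
theorem ncard_Sx {r : ℕ} [Fact r.Prime] [CharP k r] (hk : LocFin k) {t : ↥(D.group k)} (ht : t ∈ TT D k) :
    (Sx cs hp.isCartan (ch hp) t).ncard = 2 * (SP (Sx cs hp.isCartan (ch hp) t)).ncard := by
  have := finite_W hp cs
  have C := coordsL (k := k) hp cs hk r
  have hA := chAddL (k := k) hp cs hk r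
  set S := Sx cs hp.isCartan (ch hp) t with hS
  have hfin : {a | IsRoot cs hp.isCartan a}.Finite := RGD.finite_roots (cs := cs) (h := hp.isCartan)
  have hneg : ∀ a ∈ S, -a ∈ S := fun a ha => chi_neg C ht hA ha
  have h1 : S = SP S ∪ (fun a => -a) '' SP S := by
    ext a
    constructor
    · intro ha
      rcases ha.1.pos_or_neg with h0 | h0
      · exact Or.inl ⟨ha, h0⟩
      · exact Or.inr ⟨-a, ⟨hneg a ha, neg_nonneg.2 h0⟩, neg_neg a⟩
    · rintro (ha | ⟨b, hb, rfl⟩)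
      · exact ha.1
      · exact hneg b hb.1
  have h2 : Disjoint (SP S) ((fun a => -a) '' SP S) := by
    rw [Set.disjoint_left]
    rintro _ ⟨h3, h4⟩ ⟨b, hb, rfl⟩
    exact hb.1.1.not_pos_neg hb.2 (neg_nonneg.1 h4)
  have hf : (SP S).Finite := hfin.subset fun a ha => ha.1.1
  conv_lhs => rw [h1]
  rw [Set.ncard_union_eq h2 hf (hf.image _), Set.ncard_image_of_injective _ neg_injective]
  omega

/-- **The pair reduction with a given element of the torus.** -/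
theorem exists_pair' [IsAlgClosed k] (hk : LocFin k) {r : ℕ} [Fact r.Prime] [CharP k r]
    {σ : MulAut ↥(D.group k)} {g : (Fin l → ℤ) ≃+ (Fin l → ℤ)} {e : ℕ} (he : 0 < e) (hσ : IsFrob r e σ)
    (Fσ : Fr cs hp.isCartan (TT D k) (XX D l k) σ g) {x : ↥(D.group k)}
    (hσx : σ x = x) {z t : ↥(D.group k)} (hz : z⁻¹ * x * z = t) (ht : t ∈ TT D k) :
    ∃ (τ : MulAut ↥(D.group k)) (g' : (Fin l → ℤ) ≃+ (Fin l → ℤ)),
      IsFrob r e τ ∧ Fr cs hp.isCartan (TT D k) (XX D l k) τ g' ∧ τ t = t ∧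
      (∀ a ∈ Sx cs hp.isCartan (ch hp) t, 0 ≤ a → 0 ≤ g' a) ∧
      Nonempty (↥(fixC τ t) ≃* ↥(fixC σ x)) := by
  have := finite_W hp cs
  have hTL := TL_eq hp hk
  have hXL := XL_eq hp hk
  have C := coordsL hp cs hk r
  have hA := chAddL hp cs hk r
  have hG := GG_eq_top hp cs hk
  have Fσ' : Fr cs hp.isCartan (TL (Tj hp (k := k))) (XL (Xj hp (k := k))) σ g := by rw [hTL, hXL]; exact Fσ
  have ht' : t ∈ TL (Tj hp (k := k)) := by rw [hTL]; exact ht
  have C' : Coords cs hp.isCartan (TL (Tj hp (k := k))) (nc hp k) (XL (Xj hp (k := k))) (xc hp) (ch hp) := by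
    rw [hTL, hXL]; exact C
  have hA' : ChAdd cs hp.isCartan (TL (Tj hp (k := k))) (ch (K := k) hp) := by rw [hTL]; exact hA
  obtain ⟨z', k', g', h1, h2, h3, h4, h5⟩ := pair_reduction (tow hp cs hk r) C' hA' hG Fσ' hσx (z := z) (t := t)
    hz ht' (fun k' g' F' htt m hm => by
      have h1 := fun a => F'.mem_Sx C' ht' htt a
      rw [hTL, hXL] at F'
      rw [hXL] at hm ⊢
      exact lang_fr hp cs he (hσ.conj_mul k') F' (S := Sx cs hp.isCartan (ch hp) t) (fun a ha => ha.1)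
        (fun a ha => (h1 a).2 ha) hm)
  rw [hTL, hXL] at h3
  exact ⟨MulAut.conj k' * σ, g', hσ.conj_mul k', h3, h4, h5, ⟨fixEquiv h1 h2⟩⟩

end

/-! ### `Setup` -/

section

open Cfsg.Agent.H795.Core

variable {D : ChevalleyDatum} {l : ℕ} {M : CoxeterMatrix (Fin l)} {hp : IsType D l M}
  {k : Type u} [Field k] [IsAlgClosed k] (hk : LocFin k) {r : ℕ} [Fact r.Prime] [CharP k r]
  {G : Type v} [Group G] [Finite G] {p e : ℕ} {f : G →* ↥(D.group k)} {σ : MulAut ↥(D.group k)}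
  {g : (Fin l → ℤ) ≃+ (Fin l → ℤ)}

/-- the centraliser in `G` and the centraliser in `Y^σ` have the same `r`-part -/
theorem card_centralizer_eq (h : Setup hp p r e f σ g) (x : G) [Finite ↥(fixC σ (f x))] :
    (Nat.card ↥(Subgroup.centralizer {x})).factorization r = (Nat.card ↥(fixC σ (f x))).factorization r := by
  classical
  let F : ↥(Subgroup.centralizer {x}) →* ↥(fixC σ (f x)) :=
    { toFun := fun y => ⟨f y, mem_fixC.2 ⟨h.fix y, by
        rw [← map_mul, ← map_mul, Subgroup.mem_centralizer_singleton_iff.1 y.2]⟩⟩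
      map_one' := Subtype.ext (map_one f)
      map_mul' := fun a b => Subtype.ext (map_mul f a.1 b.1) }
  have hF : Function.Injective F := fun a b hab => by
    apply Subtype.ext
    apply h.inj
    exact congrArg (fun z : ↥(fixC σ (f x)) => (z : ↥(D.group k))) hab
  have h1 : Nat.card ↥(Subgroup.centralizer {x}) ∣ Nat.card ↥(fixC σ (f x)) := Subgroup.card_dvd_of_injective F hF
  obtain ⟨P⟩ : Nonempty (Sylow r ↥(fixC σ (f x))) := inferInstance
  have h2 : (P : Subgroup ↥(fixC σ (f x))) ≤ F.range := by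
    intro y hy
    obtain ⟨j, hj⟩ := P.2 ⟨y, hy⟩
    have hj' : (y : ↥(D.group k)) ^ r ^ j = 1 := congrArg (fun z : ↥(fixC σ (f x)) => (z : ↥(D.group k)))
      (congrArg Subtype.val hj)
    obtain ⟨u, hu⟩ := h.r_mem y (mem_fixC.1 y.2).1 ⟨j, hj'⟩
    refine ⟨⟨u, ?_⟩, Subtype.ext hu⟩
    rw [Subgroup.mem_centralizer_singleton_iff]
    apply h.inj
    rw [map_mul, map_mul, hu]
    exact (mem_fixC.1 y.2).2
  have h3 : Nat.card ↥(P : Subgroup ↥(fixC σ (f x))) ∣ Nat.card ↥(Subgroup.centralizer {x}) := by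
    have h4 := Subgroup.card_dvd_of_le h2
    rwa [← Nat.card_congr (MonoidHom.ofInjective hF).toEquiv] at h4
  rw [Sylow.card_eq_multiplicity] at h3
  apply le_antisymm
  · exact (Nat.factorization_le_iff_dvd Nat.card_pos.ne' Nat.card_pos.ne').2 h1 r
  · exact ((Fact.out : r.Prime).pow_dvd_iff_le_factorization Nat.card_pos.ne').1 h3

include hk in
/-- **The `r`-part of the centraliser of an element of prime order.** -/
theorem card_centralizer (h : Setup hp p r e f σ g) {q : ℕ} (hq : q.Prime) (hqr : q ≠ r) {x : G} (hx : x ^ q = 1)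
    {z t : ↥(D.group k)} (hz : z⁻¹ * f x * z = t) (ht : t ∈ TT D k) :
    (Nat.card ↥(Subgroup.centralizer {x})).factorization r =
      e * {a | IsRoot M.toCoxeterSystem hp.isCartan a ∧ ch hp a t = 1 ∧ 0 ≤ a}.ncard := by
  have hfin : Finite ↥(fixC σ (f x)) := by
    have := h.fin
    exact Finite.of_injective (fun y : ↥(fixC σ (f x)) => (⟨y.1, (mem_fixC.1 y.2).1⟩ : {y : ↥(D.group k) // σ y = y}))
      (fun a b hab => Subtype.ext (congrArg (fun z : {y : ↥(D.group k) // σ y = y} => z.1) hab))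
  obtain ⟨τ, g', h1, h2, h3, h4, ⟨E⟩⟩ := exists_pair' hp M.toCoxeterSystem hk h.e_pos h.frob h.fr (h.fix x) hz ht
  have hfin' : Finite ↥(fixC τ t) := Finite.of_equiv _ E.symm.toEquiv
  have htq : t ^ q = 1 := by
    have e1 : t = z⁻¹ * f x * z⁻¹⁻¹ := by rw [inv_inv, hz]
    rw [e1, conj_pow, ← map_pow, hx, map_one, mul_one, inv_inv, inv_mul_cancel]
  rw [card_centralizer_eq h, ← Nat.card_congr E.toEquiv,
    card_fixC hp M.toCoxeterSystem hk hq hqr ht htq h.e_pos h1 h2 h3 h4]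
  congr 2
  ext a
  constructor
  · rintro ⟨⟨ha, hb⟩, hc⟩
    exact ⟨ha, hb, hc⟩
  · rintro ⟨ha, hb, hc⟩
    exact ⟨⟨ha, hb⟩, hc⟩

include hk in
/-- The same with the number of all roots trivial on `t`. -/
theorem two_mul_factorization (h : Setup hp p r e f σ g) {q : ℕ} (hq : q.Prime) (hqr : q ≠ r) {x : G}
    (hx : x ^ q = 1) {z t : ↥(D.group k)} (hz : z⁻¹ * f x * z = t) (ht : t ∈ TT D k) :
    2 * (Nat.card ↥(Subgroup.centralizer {x})).factorization r =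
      e * {a | IsRoot M.toCoxeterSystem hp.isCartan a ∧ ch hp a t = 1}.ncard := by
  rw [card_centralizer hk h hq hqr hx hz ht]
  have h1 := ncard_Sx (r := r) hp M.toCoxeterSystem hk ht
  have h2 : SP (Sx M.toCoxeterSystem hp.isCartan (ch hp) t) =
      {a | IsRoot M.toCoxeterSystem hp.isCartan a ∧ ch hp a t = 1 ∧ 0 ≤ a} := by
    ext a
    constructor
    · rintro ⟨⟨ha, hb⟩, hc⟩
      exact ⟨ha, hb, hc⟩
    · rintro ⟨ha, hb, hc⟩
      exact ⟨⟨ha, hb⟩, hc⟩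
  rw [h2] at h1
  have h3 : (Sx M.toCoxeterSystem hp.isCartan (ch hp) t) =
      {a | IsRoot M.toCoxeterSystem hp.isCartan a ∧ ch hp a t = 1} := rfl
  rw [← h3, h1]
  ring

include hk in
/-- **If `Aut G` is transitive on the elements of order `p`, then the number of the roots trivial on `x` is the same
for all elements `x` of order `p`.** -/
theorem ncard_eq (h : Setup hp p r e f σ g) (hpp : p.Prime) (hpr : p ≠ r) (hone : H319.One.OneAut p G) {x y : G}
    (hx : orderOf x = p) (hy : orderOf y = p) {z t z' t' : ↥(D.group k)} (hz : z⁻¹ * f x * z = t) (ht : t ∈ TT D k)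
    (hz' : z'⁻¹ * f y * z' = t') (ht' : t' ∈ TT D k) :
    {a | IsRoot M.toCoxeterSystem hp.isCartan a ∧ ch hp a t = 1}.ncard =
      {a | IsRoot M.toCoxeterSystem hp.isCartan a ∧ ch hp a t' = 1}.ncard := by
  have h1 := two_mul_factorization hk h hpp hpr (by rw [← hx]; exact pow_orderOf_eq_one x) hz ht
  have h2 := two_mul_factorization hk h hpp hpr (by rw [← hy]; exact pow_orderOf_eq_one y) hz' ht'
  rw [hone.card_centralizer hx hy, h2] at h1
  exact (Nat.eq_of_mul_eq_mul_left h.e_pos h1).symm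

end

end Cfsg.Agent.H461.E2.Cent
end
end
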